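-- Team project CHO (S1082): package [NORM-D4], table part (helper69, independent second seat).
-- N_r = T(b_x, b_w) with T(u,w) = u (w . bar)^T - w (u . bar)^T, for the 24 roots of D4,
-- and N_{sigma r} = T(b_{pi x}, b_{pi w}) for the swap pi of e4 and f4.
import Mathlib
import Cfsg.Agent.Lib.Helper99.CHO.Defs

set_option autoImplicit false
open scoped MatrixGroups
open Matrix

namespace Cfsg.Agent.Lib.Helper69.CHO
open Cfsg.Agent.Lib.Helper99.CHO

universe u

/-- The index type of `K^8`. -/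
abbrev I8 : Type := Fin 4 ⊕ Fin 4

/-- `e_i ↔ f_i`. -/
def bar8 : I8 → I8
  | Sum.inl i => Sum.inr i
  | Sum.inr i => Sum.inl i

/-- Position `0..7` (order `e1..e4 f1..f4`) to index. -/
def pos8 : ℕ → I8
  | 0 => Sum.inl 0
  | 1 => Sum.inl 1
  | 2 => Sum.inl 2
  | 3 => Sum.inl 3
  | 4 => Sum.inr 0
  | 5 => Sum.inr 1
  | 6 => Sum.inr 2
  | _ => Sum.inr 3

/-- The swap of `e4` and `f4`. -/
def sw8 (x : I8) : I8 :=
  if x = Sum.inl 3 then Sum.inr 3 else if x = Sum.inr 3 then Sum.inl 3 else x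

def xL : List ℕ := [5,6,3,7,4,1,5,5,5,2,3,7,2,2,1,3,7,2,0,6,0,0,0,0]
def wL : List ℕ := [4,4,4,4,2,4,6,3,7,5,6,6,3,7,6,1,1,1,5,0,3,7,2,1]
def sgL : List ℕ := [0,1,3,2,4,5,6,8,7,9,11,10,13,12,14,16,15,17,18,19,21,20,22,23]

def xOf (r : ℕ) : I8 := pos8 (xL.getD r 0)
def wOf (r : ℕ) : I8 := pos8 (wL.getD r 0)
def sg (r : ℕ) : ℕ := sgL.getD r 0

theorem sg_lt (r : ℕ) (hr : r < 24) : sg r < 24 := by
  interval_cases r <;> decide

section
variable {K : Type u} [Field K]

/-- The Siegel-type element `x ↦ B(x,w) u - B(x,u) w`. -/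
def TT (u w : I8 → K) : Matrix I8 I8 K :=
  Matrix.of fun i j => u i * w (bar8 j) - w i * u (bar8 j)

set_option maxHeartbeats 1000000 in
theorem tabA0 : ND4 K 0 = TT (Pi.single (xOf 0) 1) (Pi.single (wOf 0) 1) := by
  ext i j; fin_cases i <;> fin_cases j <;>
    simp [ND4, TT, tab3, nListD4, ix8, xOf, wOf, xL, wL, pos8, bar8, Pi.single_apply]

set_option maxHeartbeats 1000000 in
theorem tabB0 : ND4 K (sg 0) = TT (Pi.single (sw8 (xOf 0)) 1) (Pi.single (sw8 (wOf 0)) 1) := by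
  ext i j; fin_cases i <;> fin_cases j <;>
    simp [ND4, TT, tab3, nListD4, ix8, xOf, wOf, xL, wL, sg, sgL, sw8, pos8, bar8, Pi.single_apply]

set_option maxHeartbeats 1000000 in
theorem tabA1 : ND4 K 1 = TT (Pi.single (xOf 1) 1) (Pi.single (wOf 1) 1) := by
  ext i j; fin_cases i <;> fin_cases j <;>
    simp [ND4, TT, tab3, nListD4, ix8, xOf, wOf, xL, wL, pos8, bar8, Pi.single_apply]

set_option maxHeartbeats 1000000 in
theorem tabB1 : ND4 K (sg 1) = TT (Pi.single (sw8 (xOf 1)) 1) (Pi.single (sw8 (wOf 1)) 1) := by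
  ext i j; fin_cases i <;> fin_cases j <;>
    simp [ND4, TT, tab3, nListD4, ix8, xOf, wOf, xL, wL, sg, sgL, sw8, pos8, bar8, Pi.single_apply]

set_option maxHeartbeats 1000000 in
theorem tabA2 : ND4 K 2 = TT (Pi.single (xOf 2) 1) (Pi.single (wOf 2) 1) := by
  ext i j; fin_cases i <;> fin_cases j <;>
    simp [ND4, TT, tab3, nListD4, ix8, xOf, wOf, xL, wL, pos8, bar8, Pi.single_apply]

set_option maxHeartbeats 1000000 in
theorem tabB2 : ND4 K (sg 2) = TT (Pi.single (sw8 (xOf 2)) 1) (Pi.single (sw8 (wOf 2)) 1) := by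
  ext i j; fin_cases i <;> fin_cases j <;>
    simp [ND4, TT, tab3, nListD4, ix8, xOf, wOf, xL, wL, sg, sgL, sw8, pos8, bar8, Pi.single_apply]

set_option maxHeartbeats 1000000 in
theorem tabA3 : ND4 K 3 = TT (Pi.single (xOf 3) 1) (Pi.single (wOf 3) 1) := by
  ext i j; fin_cases i <;> fin_cases j <;>
    simp [ND4, TT, tab3, nListD4, ix8, xOf, wOf, xL, wL, pos8, bar8, Pi.single_apply]

set_option maxHeartbeats 1000000 in
theorem tabB3 : ND4 K (sg 3) = TT (Pi.single (sw8 (xOf 3)) 1) (Pi.single (sw8 (wOf 3)) 1) := by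
  ext i j; fin_cases i <;> fin_cases j <;>
    simp [ND4, TT, tab3, nListD4, ix8, xOf, wOf, xL, wL, sg, sgL, sw8, pos8, bar8, Pi.single_apply]

set_option maxHeartbeats 1000000 in
theorem tabA4 : ND4 K 4 = TT (Pi.single (xOf 4) 1) (Pi.single (wOf 4) 1) := by
  ext i j; fin_cases i <;> fin_cases j <;>
    simp [ND4, TT, tab3, nListD4, ix8, xOf, wOf, xL, wL, pos8, bar8, Pi.single_apply]

set_option maxHeartbeats 1000000 in
theorem tabB4 : ND4 K (sg 4) = TT (Pi.single (sw8 (xOf 4)) 1) (Pi.single (sw8 (wOf 4)) 1) := by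
  ext i j; fin_cases i <;> fin_cases j <;>
    simp [ND4, TT, tab3, nListD4, ix8, xOf, wOf, xL, wL, sg, sgL, sw8, pos8, bar8, Pi.single_apply]

set_option maxHeartbeats 1000000 in
theorem tabA5 : ND4 K 5 = TT (Pi.single (xOf 5) 1) (Pi.single (wOf 5) 1) := by
  ext i j; fin_cases i <;> fin_cases j <;>
    simp [ND4, TT, tab3, nListD4, ix8, xOf, wOf, xL, wL, pos8, bar8, Pi.single_apply]

set_option maxHeartbeats 1000000 in
theorem tabB5 : ND4 K (sg 5) = TT (Pi.single (sw8 (xOf 5)) 1) (Pi.single (sw8 (wOf 5)) 1) := by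
  ext i j; fin_cases i <;> fin_cases j <;>
    simp [ND4, TT, tab3, nListD4, ix8, xOf, wOf, xL, wL, sg, sgL, sw8, pos8, bar8, Pi.single_apply]

set_option maxHeartbeats 1000000 in
theorem tabA6 : ND4 K 6 = TT (Pi.single (xOf 6) 1) (Pi.single (wOf 6) 1) := by
  ext i j; fin_cases i <;> fin_cases j <;>
    simp [ND4, TT, tab3, nListD4, ix8, xOf, wOf, xL, wL, pos8, bar8, Pi.single_apply]

set_option maxHeartbeats 1000000 in
theorem tabB6 : ND4 K (sg 6) = TT (Pi.single (sw8 (xOf 6)) 1) (Pi.single (sw8 (wOf 6)) 1) := by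
  ext i j; fin_cases i <;> fin_cases j <;>
    simp [ND4, TT, tab3, nListD4, ix8, xOf, wOf, xL, wL, sg, sgL, sw8, pos8, bar8, Pi.single_apply]

set_option maxHeartbeats 1000000 in
theorem tabA7 : ND4 K 7 = TT (Pi.single (xOf 7) 1) (Pi.single (wOf 7) 1) := by
  ext i j; fin_cases i <;> fin_cases j <;>
    simp [ND4, TT, tab3, nListD4, ix8, xOf, wOf, xL, wL, pos8, bar8, Pi.single_apply]

set_option maxHeartbeats 1000000 in
theorem tabB7 : ND4 K (sg 7) = TT (Pi.single (sw8 (xOf 7)) 1) (Pi.single (sw8 (wOf 7)) 1) := by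
  ext i j; fin_cases i <;> fin_cases j <;>
    simp [ND4, TT, tab3, nListD4, ix8, xOf, wOf, xL, wL, sg, sgL, sw8, pos8, bar8, Pi.single_apply]

set_option maxHeartbeats 1000000 in
theorem tabA8 : ND4 K 8 = TT (Pi.single (xOf 8) 1) (Pi.single (wOf 8) 1) := by
  ext i j; fin_cases i <;> fin_cases j <;>
    simp [ND4, TT, tab3, nListD4, ix8, xOf, wOf, xL, wL, pos8, bar8, Pi.single_apply]

set_option maxHeartbeats 1000000 in
theorem tabB8 : ND4 K (sg 8) = TT (Pi.single (sw8 (xOf 8)) 1) (Pi.single (sw8 (wOf 8)) 1) := by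
  ext i j; fin_cases i <;> fin_cases j <;>
    simp [ND4, TT, tab3, nListD4, ix8, xOf, wOf, xL, wL, sg, sgL, sw8, pos8, bar8, Pi.single_apply]

set_option maxHeartbeats 1000000 in
theorem tabA9 : ND4 K 9 = TT (Pi.single (xOf 9) 1) (Pi.single (wOf 9) 1) := by
  ext i j; fin_cases i <;> fin_cases j <;>
    simp [ND4, TT, tab3, nListD4, ix8, xOf, wOf, xL, wL, pos8, bar8, Pi.single_apply]

set_option maxHeartbeats 1000000 in
theorem tabB9 : ND4 K (sg 9) = TT (Pi.single (sw8 (xOf 9)) 1) (Pi.single (sw8 (wOf 9)) 1) := by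
  ext i j; fin_cases i <;> fin_cases j <;>
    simp [ND4, TT, tab3, nListD4, ix8, xOf, wOf, xL, wL, sg, sgL, sw8, pos8, bar8, Pi.single_apply]

set_option maxHeartbeats 1000000 in
theorem tabA10 : ND4 K 10 = TT (Pi.single (xOf 10) 1) (Pi.single (wOf 10) 1) := by
  ext i j; fin_cases i <;> fin_cases j <;>
    simp [ND4, TT, tab3, nListD4, ix8, xOf, wOf, xL, wL, pos8, bar8, Pi.single_apply]

set_option maxHeartbeats 1000000 in
theorem tabB10 : ND4 K (sg 10) = TT (Pi.single (sw8 (xOf 10)) 1) (Pi.single (sw8 (wOf 10)) 1) := by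
  ext i j; fin_cases i <;> fin_cases j <;>
    simp [ND4, TT, tab3, nListD4, ix8, xOf, wOf, xL, wL, sg, sgL, sw8, pos8, bar8, Pi.single_apply]

set_option maxHeartbeats 1000000 in
theorem tabA11 : ND4 K 11 = TT (Pi.single (xOf 11) 1) (Pi.single (wOf 11) 1) := by
  ext i j; fin_cases i <;> fin_cases j <;>
    simp [ND4, TT, tab3, nListD4, ix8, xOf, wOf, xL, wL, pos8, bar8, Pi.single_apply]

set_option maxHeartbeats 1000000 in
theorem tabB11 : ND4 K (sg 11) = TT (Pi.single (sw8 (xOf 11)) 1) (Pi.single (sw8 (wOf 11)) 1) := by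
  ext i j; fin_cases i <;> fin_cases j <;>
    simp [ND4, TT, tab3, nListD4, ix8, xOf, wOf, xL, wL, sg, sgL, sw8, pos8, bar8, Pi.single_apply]

set_option maxHeartbeats 1000000 in
theorem tabA12 : ND4 K 12 = TT (Pi.single (xOf 12) 1) (Pi.single (wOf 12) 1) := by
  ext i j; fin_cases i <;> fin_cases j <;>
    simp [ND4, TT, tab3, nListD4, ix8, xOf, wOf, xL, wL, pos8, bar8, Pi.single_apply]

set_option maxHeartbeats 1000000 in
theorem tabB12 : ND4 K (sg 12) = TT (Pi.single (sw8 (xOf 12)) 1) (Pi.single (sw8 (wOf 12)) 1) := by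
  ext i j; fin_cases i <;> fin_cases j <;>
    simp [ND4, TT, tab3, nListD4, ix8, xOf, wOf, xL, wL, sg, sgL, sw8, pos8, bar8, Pi.single_apply]

set_option maxHeartbeats 1000000 in
theorem tabA13 : ND4 K 13 = TT (Pi.single (xOf 13) 1) (Pi.single (wOf 13) 1) := by
  ext i j; fin_cases i <;> fin_cases j <;>
    simp [ND4, TT, tab3, nListD4, ix8, xOf, wOf, xL, wL, pos8, bar8, Pi.single_apply]

set_option maxHeartbeats 1000000 in
theorem tabB13 : ND4 K (sg 13) = TT (Pi.single (sw8 (xOf 13)) 1) (Pi.single (sw8 (wOf 13)) 1) := by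
  ext i j; fin_cases i <;> fin_cases j <;>
    simp [ND4, TT, tab3, nListD4, ix8, xOf, wOf, xL, wL, sg, sgL, sw8, pos8, bar8, Pi.single_apply]

set_option maxHeartbeats 1000000 in
theorem tabA14 : ND4 K 14 = TT (Pi.single (xOf 14) 1) (Pi.single (wOf 14) 1) := by
  ext i j; fin_cases i <;> fin_cases j <;>
    simp [ND4, TT, tab3, nListD4, ix8, xOf, wOf, xL, wL, pos8, bar8, Pi.single_apply]

set_option maxHeartbeats 1000000 in
theorem tabB14 : ND4 K (sg 14) = TT (Pi.single (sw8 (xOf 14)) 1) (Pi.single (sw8 (wOf 14)) 1) := by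
  ext i j; fin_cases i <;> fin_cases j <;>
    simp [ND4, TT, tab3, nListD4, ix8, xOf, wOf, xL, wL, sg, sgL, sw8, pos8, bar8, Pi.single_apply]

set_option maxHeartbeats 1000000 in
theorem tabA15 : ND4 K 15 = TT (Pi.single (xOf 15) 1) (Pi.single (wOf 15) 1) := by
  ext i j; fin_cases i <;> fin_cases j <;>
    simp [ND4, TT, tab3, nListD4, ix8, xOf, wOf, xL, wL, pos8, bar8, Pi.single_apply]

set_option maxHeartbeats 1000000 in
theorem tabB15 : ND4 K (sg 15) = TT (Pi.single (sw8 (xOf 15)) 1) (Pi.single (sw8 (wOf 15)) 1) := by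
  ext i j; fin_cases i <;> fin_cases j <;>
    simp [ND4, TT, tab3, nListD4, ix8, xOf, wOf, xL, wL, sg, sgL, sw8, pos8, bar8, Pi.single_apply]

set_option maxHeartbeats 1000000 in
theorem tabA16 : ND4 K 16 = TT (Pi.single (xOf 16) 1) (Pi.single (wOf 16) 1) := by
  ext i j; fin_cases i <;> fin_cases j <;>
    simp [ND4, TT, tab3, nListD4, ix8, xOf, wOf, xL, wL, pos8, bar8, Pi.single_apply]

set_option maxHeartbeats 1000000 in
theorem tabB16 : ND4 K (sg 16) = TT (Pi.single (sw8 (xOf 16)) 1) (Pi.single (sw8 (wOf 16)) 1) := by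
  ext i j; fin_cases i <;> fin_cases j <;>
    simp [ND4, TT, tab3, nListD4, ix8, xOf, wOf, xL, wL, sg, sgL, sw8, pos8, bar8, Pi.single_apply]

set_option maxHeartbeats 1000000 in
theorem tabA17 : ND4 K 17 = TT (Pi.single (xOf 17) 1) (Pi.single (wOf 17) 1) := by
  ext i j; fin_cases i <;> fin_cases j <;>
    simp [ND4, TT, tab3, nListD4, ix8, xOf, wOf, xL, wL, pos8, bar8, Pi.single_apply]

set_option maxHeartbeats 1000000 in
theorem tabB17 : ND4 K (sg 17) = TT (Pi.single (sw8 (xOf 17)) 1) (Pi.single (sw8 (wOf 17)) 1) := by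
  ext i j; fin_cases i <;> fin_cases j <;>
    simp [ND4, TT, tab3, nListD4, ix8, xOf, wOf, xL, wL, sg, sgL, sw8, pos8, bar8, Pi.single_apply]

set_option maxHeartbeats 1000000 in
theorem tabA18 : ND4 K 18 = TT (Pi.single (xOf 18) 1) (Pi.single (wOf 18) 1) := by
  ext i j; fin_cases i <;> fin_cases j <;>
    simp [ND4, TT, tab3, nListD4, ix8, xOf, wOf, xL, wL, pos8, bar8, Pi.single_apply]

set_option maxHeartbeats 1000000 in
theorem tabB18 : ND4 K (sg 18) = TT (Pi.single (sw8 (xOf 18)) 1) (Pi.single (sw8 (wOf 18)) 1) := by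
  ext i j; fin_cases i <;> fin_cases j <;>
    simp [ND4, TT, tab3, nListD4, ix8, xOf, wOf, xL, wL, sg, sgL, sw8, pos8, bar8, Pi.single_apply]

set_option maxHeartbeats 1000000 in
theorem tabA19 : ND4 K 19 = TT (Pi.single (xOf 19) 1) (Pi.single (wOf 19) 1) := by
  ext i j; fin_cases i <;> fin_cases j <;>
    simp [ND4, TT, tab3, nListD4, ix8, xOf, wOf, xL, wL, pos8, bar8, Pi.single_apply]

set_option maxHeartbeats 1000000 in
theorem tabB19 : ND4 K (sg 19) = TT (Pi.single (sw8 (xOf 19)) 1) (Pi.single (sw8 (wOf 19)) 1) := by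
  ext i j; fin_cases i <;> fin_cases j <;>
    simp [ND4, TT, tab3, nListD4, ix8, xOf, wOf, xL, wL, sg, sgL, sw8, pos8, bar8, Pi.single_apply]

set_option maxHeartbeats 1000000 in
theorem tabA20 : ND4 K 20 = TT (Pi.single (xOf 20) 1) (Pi.single (wOf 20) 1) := by
  ext i j; fin_cases i <;> fin_cases j <;>
    simp [ND4, TT, tab3, nListD4, ix8, xOf, wOf, xL, wL, pos8, bar8, Pi.single_apply]

set_option maxHeartbeats 1000000 in
theorem tabB20 : ND4 K (sg 20) = TT (Pi.single (sw8 (xOf 20)) 1) (Pi.single (sw8 (wOf 20)) 1) := by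
  ext i j; fin_cases i <;> fin_cases j <;>
    simp [ND4, TT, tab3, nListD4, ix8, xOf, wOf, xL, wL, sg, sgL, sw8, pos8, bar8, Pi.single_apply]

set_option maxHeartbeats 1000000 in
theorem tabA21 : ND4 K 21 = TT (Pi.single (xOf 21) 1) (Pi.single (wOf 21) 1) := by
  ext i j; fin_cases i <;> fin_cases j <;>
    simp [ND4, TT, tab3, nListD4, ix8, xOf, wOf, xL, wL, pos8, bar8, Pi.single_apply]

set_option maxHeartbeats 1000000 in
theorem tabB21 : ND4 K (sg 21) = TT (Pi.single (sw8 (xOf 21)) 1) (Pi.single (sw8 (wOf 21)) 1) := by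
  ext i j; fin_cases i <;> fin_cases j <;>
    simp [ND4, TT, tab3, nListD4, ix8, xOf, wOf, xL, wL, sg, sgL, sw8, pos8, bar8, Pi.single_apply]

set_option maxHeartbeats 1000000 in
theorem tabA22 : ND4 K 22 = TT (Pi.single (xOf 22) 1) (Pi.single (wOf 22) 1) := by
  ext i j; fin_cases i <;> fin_cases j <;>
    simp [ND4, TT, tab3, nListD4, ix8, xOf, wOf, xL, wL, pos8, bar8, Pi.single_apply]

set_option maxHeartbeats 1000000 in
theorem tabB22 : ND4 K (sg 22) = TT (Pi.single (sw8 (xOf 22)) 1) (Pi.single (sw8 (wOf 22)) 1) := by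
  ext i j; fin_cases i <;> fin_cases j <;>
    simp [ND4, TT, tab3, nListD4, ix8, xOf, wOf, xL, wL, sg, sgL, sw8, pos8, bar8, Pi.single_apply]

set_option maxHeartbeats 1000000 in
theorem tabA23 : ND4 K 23 = TT (Pi.single (xOf 23) 1) (Pi.single (wOf 23) 1) := by
  ext i j; fin_cases i <;> fin_cases j <;>
    simp [ND4, TT, tab3, nListD4, ix8, xOf, wOf, xL, wL, pos8, bar8, Pi.single_apply]

set_option maxHeartbeats 1000000 in
theorem tabB23 : ND4 K (sg 23) = TT (Pi.single (sw8 (xOf 23)) 1) (Pi.single (sw8 (wOf 23)) 1) := by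
  ext i j; fin_cases i <;> fin_cases j <;>
    simp [ND4, TT, tab3, nListD4, ix8, xOf, wOf, xL, wL, sg, sgL, sw8, pos8, bar8, Pi.single_apply]

theorem ND4_eq_TT (r : ℕ) (hr : r < 24) :
    ND4 K r = TT (Pi.single (xOf r) 1) (Pi.single (wOf r) 1) := by
  interval_cases r
  · exact tabA0
  · exact tabA1
  · exact tabA2
  · exact tabA3
  · exact tabA4
  · exact tabA5
  · exact tabA6
  · exact tabA7
  · exact tabA8
  · exact tabA9
  · exact tabA10
  · exact tabA11
  · exact tabA12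
  · exact tabA13
  · exact tabA14
  · exact tabA15
  · exact tabA16
  · exact tabA17
  · exact tabA18
  · exact tabA19
  · exact tabA20
  · exact tabA21
  · exact tabA22
  · exact tabA23

theorem ND4_sg_eq_TT (r : ℕ) (hr : r < 24) :
    ND4 K (sg r) = TT (Pi.single (sw8 (xOf r)) 1) (Pi.single (sw8 (wOf r)) 1) := by
  interval_cases r
  · exact tabB0
  · exact tabB1
  · exact tabB2
  · exact tabB3
  · exact tabB4
  · exact tabB5
  · exact tabB6
  · exact tabB7
  · exact tabB8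
  · exact tabB9
  · exact tabB10
  · exact tabB11
  · exact tabB12
  · exact tabB13
  · exact tabB14
  · exact tabB15
  · exact tabB16
  · exact tabB17
  · exact tabB18
  · exact tabB19
  · exact tabB20
  · exact tabB21
  · exact tabB22
  · exact tabB23

end

end Cfsg.Agent.Lib.Helper69.CHO
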