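-- Team project CHO (S1082): package [NORM-D4] (helper69, independent second seat).
-- Route: N_r = T(b_x, b_w) with T(u,w) = u (w . bar)^T - w (u . bar)^T (tables in NormD4Tab), and
-- d * T(u,w) = T(d u, d w) * d for every isometry d; a block-monomial isometry maps each basis
-- vector to a multiple of a basis vector (the same one, or with e4 and f4 swapped).
import Mathlib
import Cfsg.Agent.Lib.Helper69.CHO.NormD4Tab

set_option autoImplicit false
open scoped MatrixGroups
open Matrix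

namespace Cfsg.Agent.Lib.Helper69.CHO
open Cfsg.Agent.Lib.Helper99.CHO

universe u

section
variable {K : Type u} [Field K]

theorem TT_smul (a b : K) (u w : I8 → K) : TT (a • u) (b • w) = (a * b) • TT u w := by
  ext i j
  simp only [TT, Matrix.of_apply, Pi.smul_apply, smul_eq_mul, Matrix.smul_apply]
  ring

/-- The polar form of `quadFormPlus 4`. -/
def pol8 (u w : I8 → K) : K := ∑ k : I8, u k * w (bar8 k)

theorem pol8_eq (u w : I8 → K) :
    pol8 u w = Cfsg.quadFormPlus 4 K (u + w) - Cfsg.quadFormPlus 4 K u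
      - Cfsg.quadFormPlus 4 K w := by
  simp only [pol8, Fintype.sum_sum_type, bar8, Cfsg.quadFormPlus, Pi.add_apply,
    ← Finset.sum_add_distrib, ← Finset.sum_sub_distrib]
  refine Finset.sum_congr rfl (fun i _ => ?_)
  ring

theorem iso_quad8 {g : GL I8 K} (hg : g ∈ Cfsg.isometryGroup K (Cfsg.quadFormPlus 4 K))
    (u : I8 → K) :
    Cfsg.quadFormPlus 4 K ((g : Matrix I8 I8 K) *ᵥ u) = Cfsg.quadFormPlus 4 K u := hg u u

theorem iso_pol8 {g : GL I8 K} (hg : g ∈ Cfsg.isometryGroup K (Cfsg.quadFormPlus 4 K))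
    (u w : I8 → K) :
    pol8 ((g : Matrix I8 I8 K) *ᵥ u) ((g : Matrix I8 I8 K) *ᵥ w) = pol8 u w := by
  rw [pol8_eq, pol8_eq, ← Matrix.mulVec_add, iso_quad8 hg, iso_quad8 hg, iso_quad8 hg]

theorem pol8_single_left (j : I8) (v : I8 → K) : pol8 (Pi.single j 1) v = v (bar8 j) := by
  simp [pol8, Pi.single_apply]

theorem mulVec_single8 (M : Matrix I8 I8 K) (j k : I8) :
    (M *ᵥ Pi.single j (1 : K)) k = M k j := by
  simp

theorem conj_TT {d : GL I8 K} (hd : d ∈ Cfsg.isometryGroup K (Cfsg.quadFormPlus 4 K))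
    (u w : I8 → K) :
    (d : Matrix I8 I8 K) * TT u w
      = TT ((d : Matrix I8 I8 K) *ᵥ u) ((d : Matrix I8 I8 K) *ᵥ w) * (d : Matrix I8 I8 K) := by
  have h1 : ∀ (v : I8 → K) (j : I8),
      ∑ k, (d : Matrix I8 I8 K) k j * ((d : Matrix I8 I8 K) *ᵥ v) (bar8 k) = v (bar8 j) := by
    intro v j
    have h := iso_pol8 hd (Pi.single j 1) v
    rw [pol8_single_left] at h
    rw [← h, pol8]
    refine Finset.sum_congr rfl (fun k _ => ?_)
    rw [mulVec_single8]
  ext i j
  have hL : ((d : Matrix I8 I8 K) * TT u w) i j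
      = ((d : Matrix I8 I8 K) *ᵥ u) i * w (bar8 j)
        - ((d : Matrix I8 I8 K) *ᵥ w) i * u (bar8 j) := by
    simp only [Matrix.mul_apply, TT, Matrix.of_apply, Matrix.mulVec, dotProduct]
    rw [Finset.sum_mul, Finset.sum_mul, ← Finset.sum_sub_distrib]
    refine Finset.sum_congr rfl (fun k _ => ?_)
    ring
  have hR : (TT ((d : Matrix I8 I8 K) *ᵥ u) ((d : Matrix I8 I8 K) *ᵥ w)
        * (d : Matrix I8 I8 K)) i j
      = ((d : Matrix I8 I8 K) *ᵥ u) i * w (bar8 j)
        - ((d : Matrix I8 I8 K) *ᵥ w) i * u (bar8 j) := by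
    rw [Matrix.mul_apply]
    have h2 : ∀ k, TT ((d : Matrix I8 I8 K) *ᵥ u) ((d : Matrix I8 I8 K) *ᵥ w) i k
          * (d : Matrix I8 I8 K) k j
        = ((d : Matrix I8 I8 K) *ᵥ u) i
            * ((d : Matrix I8 I8 K) k j * ((d : Matrix I8 I8 K) *ᵥ w) (bar8 k))
          - ((d : Matrix I8 I8 K) *ᵥ w) i
            * ((d : Matrix I8 I8 K) k j * ((d : Matrix I8 I8 K) *ᵥ u) (bar8 k)) := by
      intro k
      simp only [TT, Matrix.of_apply]
      ring
    simp only [h2, Finset.sum_sub_distrib, ← Finset.mul_sum, h1]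
  rw [hL, hR]

theorem mulVec_single_of_col (M : Matrix I8 I8 K) (x y : I8) (h : ∀ i, i ≠ y → M i x = 0) :
    M *ᵥ Pi.single x (1 : K) = M y x • Pi.single y (1 : K) := by
  funext i
  rw [mulVec_single8]
  by_cases hi : i = y
  · subst hi
    simp
  · simp [hi, h i hi]

/-- A block-monomial isometry is monomial: diagonal, or diagonal up to the swap of `e4, f4`. -/
theorem dg_cols {d : GL I8 K} (hd : d ∈ DgD4 K) :
    (∀ x i : I8, i ≠ x → (d : Matrix I8 I8 K) i x = 0) ∨
    (∀ x i : I8, i ≠ sw8 x → (d : Matrix I8 I8 K) i x = 0) := by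
  obtain ⟨hiso, hz⟩ := hd
  have hQ : ∀ x : I8, ∑ i : Fin 4, (d : Matrix I8 I8 K) (Sum.inl i) x
        * (d : Matrix I8 I8 K) (Sum.inr i) x
      = Cfsg.quadFormPlus 4 K (Pi.single x 1) := by
    intro x
    have h := iso_quad8 hiso (Pi.single x 1)
    rw [← h]
    simp only [Cfsg.quadFormPlus, mulVec_single8]
  have e1 : (d : Matrix I8 I8 K) (Sum.inl 3) (Sum.inl 3)
      * (d : Matrix I8 I8 K) (Sum.inr 3) (Sum.inl 3) = 0 := by
    have h := hQ (Sum.inl 3)
    rw [Fin.sum_univ_four, hz (Sum.inl 0) (Sum.inl 3) (by decide) (by decide),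
      hz (Sum.inl 1) (Sum.inl 3) (by decide) (by decide),
      hz (Sum.inl 2) (Sum.inl 3) (by decide) (by decide)] at h
    simpa [Cfsg.quadFormPlus, Fin.sum_univ_four, Pi.single_apply] using h
  have e2 : (d : Matrix I8 I8 K) (Sum.inl 3) (Sum.inr 3)
      * (d : Matrix I8 I8 K) (Sum.inr 3) (Sum.inr 3) = 0 := by
    have h := hQ (Sum.inr 3)
    rw [Fin.sum_univ_four, hz (Sum.inl 0) (Sum.inr 3) (by decide) (by decide),
      hz (Sum.inl 1) (Sum.inr 3) (by decide) (by decide),
      hz (Sum.inl 2) (Sum.inr 3) (by decide) (by decide)] at h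
    simpa [Cfsg.quadFormPlus, Fin.sum_univ_four, Pi.single_apply] using h
  have e3 : (d : Matrix I8 I8 K) (Sum.inl 3) (Sum.inl 3)
        * (d : Matrix I8 I8 K) (Sum.inr 3) (Sum.inr 3)
      + (d : Matrix I8 I8 K) (Sum.inr 3) (Sum.inl 3)
        * (d : Matrix I8 I8 K) (Sum.inl 3) (Sum.inr 3) = 1 := by
    have h := iso_pol8 hiso (Pi.single (Sum.inl 3) 1) (Pi.single (Sum.inr 3) 1)
    rw [pol8_single_left] at h
    simp only [pol8, mulVec_single8, Fintype.sum_sum_type, bar8, Fin.sum_univ_four] at h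
    rw [hz (Sum.inl 0) (Sum.inl 3) (by decide) (by decide),
      hz (Sum.inl 1) (Sum.inl 3) (by decide) (by decide),
      hz (Sum.inl 2) (Sum.inl 3) (by decide) (by decide),
      hz (Sum.inr 0) (Sum.inl 3) (by decide) (by decide),
      hz (Sum.inr 1) (Sum.inl 3) (by decide) (by decide),
      hz (Sum.inr 2) (Sum.inl 3) (by decide) (by decide)] at h
    simpa using h
  by_cases hp : (d : Matrix I8 I8 K) (Sum.inl 3) (Sum.inl 3) = 0
  · -- antidiagonal block
    right
    have hq : (d : Matrix I8 I8 K) (Sum.inl 3) (Sum.inr 3) ≠ 0 := by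
      intro h0
      rw [hp, h0] at e3
      simp at e3
    have hs : (d : Matrix I8 I8 K) (Sum.inr 3) (Sum.inr 3) = 0 := by
      rcases mul_eq_zero.mp e2 with h | h
      · exact absurd h hq
      · exact h
    intro x i hne
    by_cases hx : x = Sum.inl 3
    · subst hx
      have hsw : sw8 (Sum.inl 3 : I8) = Sum.inr 3 := by decide
      rw [hsw] at hne
      by_cases hi : i = Sum.inl 3
      · subst hi
        exact hp
      · exact hz i (Sum.inl 3) hi (fun h => h.1.elim hi hne)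
    · by_cases hx' : x = Sum.inr 3
      · subst hx'
        have hsw : sw8 (Sum.inr 3 : I8) = Sum.inl 3 := by decide
        rw [hsw] at hne
        by_cases hi : i = Sum.inr 3
        · subst hi
          exact hs
        · exact hz i (Sum.inr 3) hi (fun h => h.1.elim hne hi)
      · have hsw : sw8 x = x := by simp [sw8, hx, hx']
        rw [hsw] at hne
        exact hz i x hne (fun h => h.2.elim hx hx')
  · -- diagonal block
    left
    have hr : (d : Matrix I8 I8 K) (Sum.inr 3) (Sum.inl 3) = 0 := by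
      rcases mul_eq_zero.mp e1 with h | h
      · exact absurd h hp
      · exact h
    have hs : (d : Matrix I8 I8 K) (Sum.inr 3) (Sum.inr 3) ≠ 0 := by
      intro h0
      rw [hr, h0] at e3
      simp at e3
    have hq : (d : Matrix I8 I8 K) (Sum.inl 3) (Sum.inr 3) = 0 := by
      rcases mul_eq_zero.mp e2 with h | h
      · exact h
      · exact absurd h hs
    intro x i hne
    by_cases hb : (i = Sum.inl 3 ∨ i = Sum.inr 3) ∧ (x = Sum.inl 3 ∨ x = Sum.inr 3)
    · rcases hb with ⟨hi | hi, hx | hx⟩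
      · subst hi; subst hx; exact absurd rfl hne
      · subst hi; subst hx; exact hq
      · subst hi; subst hx; exact hr
      · subst hi; subst hx; exact absurd rfl hne
    · exact hz i x hne hb

/-- The matrix form of [NORM-D4]. -/
theorem norm_mat {d : GL I8 K} (hd : d ∈ DgD4 K) (r : ℕ) (hr : r < 24) (t : K) :
    ∃ (r' : ℕ) (c : K), r' < 24 ∧
      (d : Matrix I8 I8 K) * ED4mat K r t = ED4mat K r' c * (d : Matrix I8 I8 K) := by
  have key : ∀ (π : I8 → I8), (∀ x i : I8, i ≠ π x → (d : Matrix I8 I8 K) i x = 0) →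
      (d : Matrix I8 I8 K) * ND4 K r
        = ((d : Matrix I8 I8 K) (π (xOf r)) (xOf r) * (d : Matrix I8 I8 K) (π (wOf r)) (wOf r))
            • TT (Pi.single (π (xOf r)) 1) (Pi.single (π (wOf r)) 1)
          * (d : Matrix I8 I8 K) := by
    intro π hπ
    rw [ND4_eq_TT r hr, conj_TT hd.1, mulVec_single_of_col _ _ _ (hπ (xOf r)),
      mulVec_single_of_col _ _ _ (hπ (wOf r)), TT_smul]
  rcases dg_cols hd with h | h
  · refine ⟨r, ((d : Matrix I8 I8 K) (xOf r) (xOf r) * (d : Matrix I8 I8 K) (wOf r) (wOf r)) * t,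
      hr, ?_⟩
    have hk := key id h
    simp only [id] at hk
    rw [← ND4_eq_TT r hr] at hk
    rw [ED4mat, ED4mat, Matrix.mul_add, Matrix.mul_one, Matrix.add_mul, Matrix.one_mul,
      Matrix.mul_smul, hk, Matrix.smul_mul, Matrix.smul_mul, smul_smul, mul_comm t]
  · refine ⟨sg r, ((d : Matrix I8 I8 K) (sw8 (xOf r)) (xOf r)
        * (d : Matrix I8 I8 K) (sw8 (wOf r)) (wOf r)) * t, sg_lt r hr, ?_⟩
    have hk := key sw8 h
    rw [← ND4_sg_eq_TT r hr] at hk
    rw [ED4mat, ED4mat, Matrix.mul_add, Matrix.mul_one, Matrix.add_mul, Matrix.one_mul,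
      Matrix.mul_smul, hk, Matrix.smul_mul, Matrix.smul_mul, smul_smul, mul_comm t]

theorem coe_ED4 (hU : PkgUnitD4.{u}) (r : Fin Cfsg.Lie.chevD4.nroots) (t : K) :
    ((ED4 K r t : GL I8 K) : Matrix I8 I8 K) = ED4mat K r.val t := by
  have h : IsUnit (ED4mat K r.val t) := hU K r.val t r.isLt
  unfold ED4
  rw [dif_pos h]
  rfl

end

/-- [NORM-D4] block-monomial isometries normalize `R` (from [UNIT-D4]). -/
theorem pkgNormD4_of (hU : PkgUnitD4.{u}) : PkgNormD4.{u} := by
  intro K _ d hd r t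
  obtain ⟨r', c, hr', hmat⟩ := norm_mat hd r.val r.isLt t
  have hr'' : r' < Cfsg.Lie.chevD4.nroots := hr'
  have heq : d * ED4 K r t = ED4 K ⟨r', hr''⟩ c * d := by
    apply Units.ext
    rw [Units.val_mul, Units.val_mul, coe_ED4 hU, coe_ED4 hU]
    exact hmat
  have h2 : d * ED4 K r t * d⁻¹ = ED4 K ⟨r', hr''⟩ c := by
    rw [heq, mul_inv_cancel_right]
  rw [h2]
  exact Subgroup.subset_closure ⟨(⟨r', hr''⟩, c), rfl⟩

end Cfsg.Agent.Lib.Helper69.CHO
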